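import Groth.Agent.Lib.CokerLocal.Basic
import Mathlib

/-!
# Kernels of locally constant fibre dimension over reduced rings
-/

universe u v

open TensorProduct

namespace GrothLib.CokerReduced

variable {A : Type u} [CommRing A] {M F : Type v} [AddCommGroup M] [Module A M]
  [AddCommGroup F] [Module A F]

theorem exists_lift (x : PrimeSpectrum A) (z : x.asIdeal.ResidueField ⊗[A] M) :
    ∃ (t : x.asIdeal.ResidueField) (m : M), t ≠ 0 ∧ (1 : x.asIdeal.ResidueField) ⊗ₜ[A] m = t • z := by
  induction z using TensorProduct.induction_on with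
  | zero => exact ⟨1, 0, one_ne_zero, by simp⟩
  | tmul a m =>
    obtain ⟨r, s, hs, rfl⟩ := IsFractionRing.div_surjective (A ⧸ x.asIdeal) a
    obtain ⟨r, rfl⟩ := Ideal.Quotient.mk_surjective r
    have hs0 : algebraMap (A ⧸ x.asIdeal) x.asIdeal.ResidueField s ≠ 0 :=
      IsLocalization.to_map_ne_zero_of_mem_nonZeroDivisors _ le_rfl hs
    refine ⟨algebraMap (A ⧸ x.asIdeal) x.asIdeal.ResidueField s, r • m, hs0, ?_⟩
    rw [TensorProduct.smul_tmul', smul_eq_mul, mul_div_cancel₀ _ hs0, ← TensorProduct.smul_tmul,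
      Algebra.smul_def, mul_one, IsScalarTower.algebraMap_apply A (A ⧸ x.asIdeal) x.asIdeal.ResidueField]
    rfl
  | add a b ha hb =>
    obtain ⟨t, m, ht, hm⟩ := ha
    obtain ⟨t', m', ht', hm'⟩ := hb
    obtain ⟨r, s, hs, hrs⟩ := IsFractionRing.div_surjective (A ⧸ x.asIdeal) (t' / t)
    obtain ⟨r, rfl⟩ := Ideal.Quotient.mk_surjective r
    obtain ⟨s, rfl⟩ := Ideal.Quotient.mk_surjective s
    have hs0 : algebraMap (A ⧸ x.asIdeal) x.asIdeal.ResidueField (Ideal.Quotient.mk _ s) ≠ 0 :=
      IsLocalization.to_map_ne_zero_of_mem_nonZeroDivisors _ le_rfl hs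
    refine ⟨algebraMap (A ⧸ x.asIdeal) x.asIdeal.ResidueField (Ideal.Quotient.mk _ s) * t', r • m + s • m',
      mul_ne_zero hs0 ht', ?_⟩
    rw [TensorProduct.tmul_add, TensorProduct.tmul_smul, TensorProduct.tmul_smul, hm, hm', smul_add,
      ← algebraMap_smul x.asIdeal.ResidueField r, ← algebraMap_smul x.asIdeal.ResidueField s, smul_smul,
      smul_smul, IsScalarTower.algebraMap_apply A (A ⧸ x.asIdeal) x.asIdeal.ResidueField,
      IsScalarTower.algebraMap_apply A (A ⧸ x.asIdeal) x.asIdeal.ResidueField]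
    congr 2
    rw [div_eq_iff hs0] at hrs
    rw [Ideal.Quotient.algebraMap_eq, hrs]
    field_simp

/-- A family in `M` whose image under `q` spans spans the fibre, resp. stays independent. -/
theorem exists_family (x : PrimeSpectrum A) {n : ℕ} (z : Fin n → x.asIdeal.ResidueField ⊗[A] M) :
    ∃ (m : Fin n → M) (t : Fin n → x.asIdeal.ResidueField), (∀ i, t i ≠ 0) ∧
      ∀ i, (1 : x.asIdeal.ResidueField) ⊗ₜ[A] m i = t i • z i := by
  choose t m ht hm using fun i => exists_lift x (z i)
  exact ⟨m, t, ht, hm⟩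

theorem range_baseChange_linearCombination {n : ℕ} (B : Type u) [CommRing B] [Algebra A B] (m : Fin n → M) :
    Submodule.span B (Set.range fun i => (1 : B) ⊗ₜ[A] m i) ≤
      LinearMap.range ((Fintype.linearCombination A m).baseChange B) := by
  classical
  rw [Submodule.span_le]
  rintro _ ⟨i, rfl⟩
  exact ⟨(1 : B) ⊗ₜ Pi.single i 1, by simp⟩

theorem baseChange_injective_of_linearIndependent {n : ℕ} (B : Type u) [CommRing B] [Algebra A B]
    (d : (Fin n → A) →ₗ[A] F) (h : LinearIndependent B fun i => (1 : B) ⊗ₜ[A] d (Pi.single i 1)) :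
    Function.Injective (d.baseChange B) := by
  classical
  let e := TensorProduct.piScalarRight A B B (Fin n)
  rw [injective_iff_map_eq_zero]
  intro z hz
  obtain ⟨v, rfl⟩ := e.symm.surjective z
  have hv : e.symm v = ∑ i, v i • ((1 : B) ⊗ₜ[A] (Pi.single i 1 : Fin n → A)) := by
    apply e.injective
    rw [e.apply_symm_apply, map_sum]
    funext j
    simp [e, Pi.single_apply]
  rw [hv, map_sum] at hz
  simp only [map_smul, LinearMap.baseChange_tmul] at hz
  have hv0 : v = 0 := funext fun i => Fintype.linearIndependent_iff.1 h v hz i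
  rw [hv0, map_zero]

theorem exists_split {k V W : Type*} [Field k] [AddCommGroup V] [Module k V] [AddCommGroup W] [Module k W]
    [FiniteDimensional k V] (φ : V →ₗ[k] W) :
    ∃ (r : ℕ) (w : Fin (Module.finrank k (LinearMap.ker φ)) → V) (z : Fin r → V),
      LinearIndependent k (fun i => φ (z i)) ∧ ∀ v, v ∈ Submodule.span k (Set.range w ∪ Set.range z) := by
  let bk := Module.finBasis k (LinearMap.ker φ)
  let br := Module.finBasis k (LinearMap.range φ)
  choose zr hzr using fun i => (br i).2
  refine ⟨_, fun j => (bk j : V), zr, ?_, fun v => ?_⟩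
  · simp only [hzr]
    exact br.linearIndependent.map' (LinearMap.range φ).subtype (Submodule.ker_subtype _)
  · have hv : φ v ∈ LinearMap.range φ := LinearMap.mem_range_self _ _
    have hker : v - ∑ i, br.repr ⟨_, hv⟩ i • zr i ∈ LinearMap.ker φ := by
      rw [LinearMap.mem_ker, map_sub, map_sum, sub_eq_zero]
      simp only [map_smul, hzr]
      have := congrArg Subtype.val (br.sum_repr ⟨_, hv⟩)
      rw [Submodule.coe_sum] at this
      exact this.symm
    have := congrArg Subtype.val (bk.sum_repr ⟨_, hker⟩)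
    rw [Submodule.coe_sum] at this
    rw [eq_add_of_sub_eq this.symm]
    exact add_mem (Submodule.sum_mem _ fun j _ => Submodule.smul_mem _ _
        (Submodule.subset_span (Or.inl ⟨j, rfl⟩)))
      (Submodule.sum_mem _ fun i _ => Submodule.smul_mem _ _ (Submodule.subset_span (Or.inr ⟨i, rfl⟩)))

theorem mem_range_of_smul {k V : Type*} [Field k] [AddCommGroup V] [Module k V] (W : Submodule k V)
    {t : k} (ht : t ≠ 0) {v v' : V} (h : v' = t • v) (hv : v' ∈ W) : v ∈ W := by
  subst h
  exact (Submodule.smul_mem_iff _ ht).1 hv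

/-- Generators adapted to `δ` at a point. -/
theorem exists_adapted [Module.Finite A M] [Module.Finite A F] (δ : M →ₗ[A] F) (x : PrimeSpectrum A) :
    ∃ (r : ℕ) (mk : Fin (Module.finrank x.asIdeal.ResidueField
        (LinearMap.ker (δ.baseChange x.asIdeal.ResidueField))) → M) (mr : Fin r → M),
      Function.Injective ((δ ∘ₗ Fintype.linearCombination A mr).baseChange x.asIdeal.ResidueField) ∧
      ∀ z, z ∈ LinearMap.range (((Fintype.linearCombination A mk).coprod
        (Fintype.linearCombination A mr)).baseChange x.asIdeal.ResidueField) := by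
  classical
  obtain ⟨r, w, z, hind, hspan⟩ := exists_split (δ.baseChange x.asIdeal.ResidueField)
  obtain ⟨mk, tk, htk, hmk⟩ := exists_family x w
  obtain ⟨mr, tr, htr, hmr⟩ := exists_family x z
  refine ⟨r, mk, mr, ?_, fun v => ?_⟩
  · refine baseChange_injective_of_linearIndependent _ _ ?_
    have e : (fun i => (1 : x.asIdeal.ResidueField) ⊗ₜ[A]
        (δ ∘ₗ Fintype.linearCombination A mr) (Pi.single i 1)) =
        fun i => tr i • δ.baseChange x.asIdeal.ResidueField (z i) := funext fun i => by
      rw [LinearMap.comp_apply, Fintype.linearCombination_apply_single, one_smul,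
        ← LinearMap.baseChange_tmul, hmr, map_smul]
    rw [e]
    exact hind.units_smul fun i => Units.mk0 (tr i) (htr i)
  · refine (Submodule.span_le.2 ?_) (hspan v)
    rintro y (⟨j, rfl⟩ | ⟨i, rfl⟩)
    · refine mem_range_of_smul _ (htk j) (hmk j) ⟨(1 : x.asIdeal.ResidueField) ⊗ₜ (Pi.single j 1, 0), ?_⟩
      rw [LinearMap.baseChange_tmul, LinearMap.coprod_apply, Fintype.linearCombination_apply_single,
        map_zero, one_smul, add_zero]
    · refine mem_range_of_smul _ (htr i) (hmr i) ⟨(1 : x.asIdeal.ResidueField) ⊗ₜ (0, Pi.single i 1), ?_⟩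
      rw [LinearMap.baseChange_tmul, LinearMap.coprod_apply, Fintype.linearCombination_apply_single,
        map_zero, one_smul, zero_add]

/-- Nakayama: surjectivity on a fibre gives surjectivity up to a scalar. -/
theorem exists_smul_mem_range [Module.Finite A M] {P : Type*} [AddCommGroup P] [Module A P] (u : P →ₗ[A] M)
    (x : PrimeSpectrum A) (h : ∀ z, z ∈ LinearMap.range (u.baseChange x.asIdeal.ResidueField)) :
    ∃ f, f ∉ x.asIdeal ∧ ∀ m, ∃ a, u a = f • m := by
  classical
  let k := x.asIdeal.ResidueField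
  let W := LinearMap.range u
  have hsupp : x ∉ Module.support A (M ⧸ W) := by
    rw [Module.mem_support_iff_nontrivial_residueField_tensorProduct, not_nontrivial_iff_subsingleton]
    refine subsingleton_of_forall_eq 0 fun z => ?_
    obtain ⟨y, rfl⟩ := LinearMap.lTensor_surjective k W.mkQ_surjective z
    obtain ⟨w, rfl⟩ := h y
    show (W.mkQ.lTensor k) (u.lTensor k w) = 0
    rw [← LinearMap.comp_apply, ← LinearMap.lTensor_comp,
      show W.mkQ ∘ₗ u = 0 from LinearMap.ext fun a =>
        (Submodule.Quotient.mk_eq_zero _).2 (LinearMap.mem_range_self u a),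
      LinearMap.lTensor_zero, LinearMap.zero_apply]
  rw [Module.notMem_support_iff] at hsupp
  obtain ⟨s, hs⟩ := Module.Finite.fg_top (R := A) (M := M)
  have hex : ∀ m : M, ∃ f, f ∉ x.asIdeal ∧ f • m ∈ W := fun m => by
    have h0 : LocalizedModule.mkLinearMap x.asIdeal.primeCompl (M ⧸ W) (Submodule.Quotient.mk m) = 0 :=
      Subsingleton.elim _ _
    obtain ⟨⟨f, hf⟩, hfm⟩ := (IsLocalizedModule.eq_zero_iff x.asIdeal.primeCompl _).1 h0
    rw [Submonoid.mk_smul, ← Submodule.Quotient.mk_smul, Submodule.Quotient.mk_eq_zero] at hfm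
    exact ⟨f, hf, hfm⟩
  choose fm hfm ha using hex
  refine ⟨∏ m ∈ s, fm m, fun h0 => ?_, fun m => ?_⟩
  · obtain ⟨m, -, hm⟩ := (x.2.prod_mem_iff).1 h0
    exact hfm m hm
  · have : Submodule.span A (s : Set M) ≤ W.comap ((∏ m ∈ s, fm m) • (LinearMap.id : M →ₗ[A] M)) := by
      rw [Submodule.span_le]
      intro m hm
      show (∏ m ∈ s, fm m) • m ∈ W
      rw [← Finset.prod_erase_mul _ _ hm, mul_smul]
      exact Submodule.smul_mem _ _ (ha m)
    rw [hs] at this
    exact this (Submodule.mem_top (x := m))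

theorem mul_eq_zero_of_forall_mem [IsReduced A] {G a : A}
    (ha : ∀ q : PrimeSpectrum A, G ∉ q.asIdeal → a ∈ q.asIdeal) : G * a = 0 := by
  refine IsReduced.eq_zero _ (nilpotent_iff_mem_prime.2 fun J hJ => ?_)
  by_cases hGJ : G ∈ J
  · exact J.mul_mem_right _ hGJ
  · exact J.mul_mem_left _ (ha ⟨J, hJ⟩ hGJ)

theorem mem_of_tmul_eq_zero {P : Type*} [AddCommGroup P] [Module A P] (q : PrimeSpectrum A) {y : P}
    (h : (1 : q.asIdeal.ResidueField) ⊗ₜ[A] y = 0) (φ : P →ₗ[A] A) : φ y ∈ q.asIdeal := by
  have := congrArg ((TensorProduct.rid A q.asIdeal.ResidueField).toLinearMap ∘ₗ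
    φ.lTensor q.asIdeal.ResidueField) h
  simp only [LinearMap.comp_apply, LinearMap.lTensor_tmul, LinearEquiv.coe_coe, TensorProduct.rid_tmul,
    map_zero] at this
  rw [Algebra.smul_def, mul_one] at this
  exact Ideal.algebraMap_residueField_eq_zero.1 this

/-- The fibres near a point. -/
theorem fibre_data [Module.Finite A M] [Module.Finite A F] (δ : M →ₗ[A] F) {c r : ℕ} (mk : Fin c → M)
    (mr : Fin r → M) (η : F →ₗ[A] (Fin r → A)) {g f : A}
    (hη : η ∘ₗ (δ ∘ₗ Fintype.linearCombination A mr) = g • LinearMap.id)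
    (hf : ∀ m, ∃ a, (Fintype.linearCombination A mk).coprod (Fintype.linearCombination A mr) a = f • m)
    (q : PrimeSpectrum A) (hgq : g ∉ q.asIdeal) (hfq : f ∉ q.asIdeal)
    (hker : Module.finrank q.asIdeal.ResidueField (LinearMap.ker (δ.baseChange q.asIdeal.ResidueField)) = c) :
    Function.Injective (((Fintype.linearCombination A mk).coprod
        (Fintype.linearCombination A mr)).baseChange q.asIdeal.ResidueField) ∧
      LinearMap.range (δ.baseChange q.asIdeal.ResidueField) ≤
        LinearMap.range ((δ ∘ₗ Fintype.linearCombination A mr).baseChange q.asIdeal.ResidueField) := by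
  let l := q.asIdeal.ResidueField
  let u := (Fintype.linearCombination A mk).coprod (Fintype.linearCombination A mr)
  let d₁ := δ ∘ₗ Fintype.linearCombination A mr
  have hg0 : algebraMap A l g ≠ 0 := fun h0 => hgq (Ideal.algebraMap_residueField_eq_zero.1 h0)
  have hf0 : algebraMap A l f ≠ 0 := fun h0 => hfq (Ideal.algebraMap_residueField_eq_zero.1 h0)
  have hd₁q : Function.Injective (d₁.baseChange l) := by
    intro a b hab
    have := congrArg (η.baseChange l) hab
    rw [← LinearMap.comp_apply, ← LinearMap.comp_apply, ← LinearMap.baseChange_comp, hη,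
      LinearMap.baseChange_smul, LinearMap.baseChange_id, LinearMap.smul_apply, LinearMap.smul_apply,
      LinearMap.id_apply, LinearMap.id_apply, ← algebraMap_smul l g, ← algebraMap_smul l g b] at this
    exact smul_right_injective _ hg0 this
  have hsurj : Function.Surjective (u.baseChange l) := by
    intro z
    induction z using TensorProduct.induction_on with
    | zero => exact ⟨0, map_zero _⟩
    | tmul a m =>
      obtain ⟨w, hw⟩ := hf m
      refine ⟨(a * (algebraMap A l f)⁻¹) ⊗ₜ w, ?_⟩
      rw [LinearMap.baseChange_tmul, show u w = f • m from hw, ← TensorProduct.smul_tmul, Algebra.smul_def,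
        mul_comm, inv_mul_cancel_right₀ hf0]
    | add a b ha hb =>
      obtain ⟨w, rfl⟩ := ha; obtain ⟨w', rfl⟩ := hb; exact ⟨w + w', map_add _ _ _⟩
  have hdim1 : Module.finrank l (l ⊗[A] ((Fin c → A) × (Fin r → A))) = c + r := by
    haveI : Nontrivial A := ⟨⟨g, 0, fun h0 => hgq (h0 ▸ q.asIdeal.zero_mem)⟩⟩
    rw [Module.finrank_baseChange, Module.finrank_prod, Module.finrank_fin_fun, Module.finrank_fin_fun]
  have hle : LinearMap.range (d₁.baseChange l) ≤ LinearMap.range (δ.baseChange l) := by
    rw [LinearMap.baseChange_comp]; exact LinearMap.range_comp_le_range _ _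
  have hr1 : Module.finrank l (LinearMap.range (d₁.baseChange l)) = r := by
    haveI : Nontrivial A := ⟨⟨g, 0, fun h0 => hgq (h0 ▸ q.asIdeal.zero_mem)⟩⟩
    rw [LinearMap.finrank_range_of_inj hd₁q, Module.finrank_baseChange, Module.finrank_fin_fun]
  have hM : Module.finrank l (l ⊗[A] M) ≤ c + r :=
    (LinearMap.finrank_le_finrank_of_surjective hsurj).trans hdim1.le
  have hker' : Module.finrank l (LinearMap.ker (δ.baseChange l)) = c := hker
  have hRN := LinearMap.finrank_range_add_finrank_ker (δ.baseChange l)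
  have hr2 := Submodule.finrank_mono hle
  have hMeq : Module.finrank l (l ⊗[A] M) = c + r := by omega
  refine ⟨(LinearMap.injective_iff_surjective_of_finrank_eq_finrank (hdim1.trans hMeq.symm)).2 hsurj, ?_⟩
  exact (Submodule.eq_of_le_of_finrank_le hle (by omega)).ge

theorem exists_local [IsReduced A] [Module.Finite A M] [Module.Finite A F] [Module.Free A F] (δ : M →ₗ[A] F)
    (h : IsLocallyConstant (fun x : PrimeSpectrum A =>
      Module.finrank x.asIdeal.ResidueField (LinearMap.ker (δ.baseChange x.asIdeal.ResidueField))))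
    (x : PrimeSpectrum A) : (∃ g, g ∉ x.asIdeal ∧ GrothLib.CokerProj.GenInv δ g) ∧
      ∃ (c r : ℕ) (u : ((Fin c → A) × (Fin r → A)) →ₗ[A] M) (g : A), g ∉ x.asIdeal ∧
        (∀ m : M, ∃ a, u a = g • m) ∧ ∀ a, u a = 0 → g • a = 0 := by
  obtain ⟨U, hU, hxU, hconst⟩ := (IsLocallyConstant.iff_exists_open _).1 h x
  obtain ⟨_, ⟨_, ⟨f₀, rfl⟩, rfl⟩, hf₀, hf₀U⟩ :=
    PrimeSpectrum.isBasis_basic_opens.exists_subset_of_mem_open hxU hU
  obtain ⟨r, mk, mr, hd₁, hu⟩ := exists_adapted δ x
  let d₁ : (Fin r → A) →ₗ[A] F := δ ∘ₗ Fintype.linearCombination A mr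
  obtain ⟨g, hg, η, hη⟩ := GrothLib.CokerLocal.exists_leftInv_of_fibre_injective d₁ x hd₁
  obtain ⟨f, hf, hfu⟩ := exists_smul_mem_range _ x hu
  let G := f₀ * (f * g)
  have hG : G ∉ x.asIdeal := fun h0 => by
    rcases x.2.mem_or_mem h0 with h0 | h0
    · exact hf₀ h0
    · exact (x.2.mem_or_mem h0).elim hf hg
  have hfib := fun (q : PrimeSpectrum A) (hq : G ∉ q.asIdeal) =>
    fibre_data δ mk mr η hη hfu q (fun h0 => hq (Ideal.mul_mem_left _ _ (Ideal.mul_mem_left _ _ h0)))
      (fun h0 => hq (Ideal.mul_mem_left _ _ (Ideal.mul_mem_right _ _ h0)))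
      (hconst q (hf₀U fun h0 => hq (Ideal.mul_mem_right _ _ h0)))
  refine ⟨⟨g * (f * G), fun h0 => (x.2.mem_or_mem h0).elim hg fun h0 => (x.2.mem_or_mem h0).elim hf hG,
    (f * G) • (Fintype.linearCombination A mr ∘ₗ η), fun m => ?_⟩, ?_⟩
  · let y := g • δ m - d₁ (η (δ m))
    have hy0 : G • y = 0 := by
      apply (Module.Free.chooseBasis A F).repr.injective
      rw [map_smul, map_zero]
      refine Finsupp.ext fun j => ?_
      show G * (Module.Free.chooseBasis A F).repr y j = 0
      refine mul_eq_zero_of_forall_mem fun q hq => mem_of_tmul_eq_zero q ?_ ((Module.Free.chooseBasis A F).coord j)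
      let l := q.asIdeal.ResidueField
      obtain ⟨w, hw⟩ := (hfib q hq).2 (LinearMap.mem_range_self (δ.baseChange l) ((1 : l) ⊗ₜ m))
      have e1 : ∀ z, d₁.baseChange l (η.baseChange l (d₁.baseChange l z)) = g • d₁.baseChange l z := fun z => by
        rw [← LinearMap.comp_apply (η.baseChange l), ← LinearMap.baseChange_comp, hη, LinearMap.baseChange_smul,
          LinearMap.baseChange_id, LinearMap.smul_apply, LinearMap.id_apply, LinearMap.map_smul_of_tower]
      show (1 : l) ⊗ₜ[A] (g • δ m - d₁ (η (δ m))) = 0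
      rw [TensorProduct.tmul_sub, TensorProduct.tmul_smul, ← LinearMap.baseChange_tmul (f := d₁),
        ← LinearMap.baseChange_tmul (f := η), ← LinearMap.baseChange_tmul (f := δ), ← hw, e1, sub_self]
    have hy1 : G • d₁ (η (δ m)) = G • g • δ m := by
      rw [eq_comm, ← sub_eq_zero, ← smul_sub]; exact hy0
    show δ ((f * G) • Fintype.linearCombination A mr (η (δ m))) = (g * (f * G)) • δ m
    rw [map_smul]
    show (f * G) • d₁ (η (δ m)) = _
    rw [mul_smul, hy1, smul_smul, smul_smul]
    congr 1
    ring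
  · refine ⟨_, r, (Fintype.linearCombination A mk).coprod (Fintype.linearCombination A mr), f * G, fun h0 => (x.2.mem_or_mem h0).elim hf hG, fun m => ?_, fun a ha => ?_⟩
    · obtain ⟨w, hw⟩ := hfu m
      refine ⟨G • w, ?_⟩
      rw [map_smul, hw, smul_smul, mul_comm]
    · have hco : ∀ φ : ((Fin _ → A) × (Fin r → A)) →ₗ[A] A, G * φ a = 0 := fun φ => by
        refine mul_eq_zero_of_forall_mem fun q hq => mem_of_tmul_eq_zero q ((hfib q hq).1 ?_) φ
        rw [LinearMap.baseChange_tmul, map_zero, ha, TensorProduct.tmul_zero]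
      rw [mul_smul]
      suffices G • a = 0 by rw [this, smul_zero]
      refine Prod.ext (funext fun j => ?_) (funext fun i => ?_)
      · exact hco ((LinearMap.proj j) ∘ₗ LinearMap.fst A _ _)
      · exact hco ((LinearMap.proj i) ∘ₗ LinearMap.snd A _ _)

theorem projective_of_exists_local [IsNoetherianRing A] [Module.Finite A M]
    (h : ∀ x : PrimeSpectrum A, ∃ (c r : ℕ) (u : ((Fin c → A) × (Fin r → A)) →ₗ[A] M) (g : A),
      g ∉ x.asIdeal ∧ (∀ m : M, ∃ a, u a = g • m) ∧ ∀ a, u a = 0 → g • a = 0) :
    Module.Projective A M := by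
  have : Module.FinitePresentation A M := Module.finitePresentation_of_finite A M
  refine Module.projective_of_localization_maximal fun I hI => ?_
  obtain ⟨c, r, u, g, hg, hs, hi⟩ := h ⟨I, hI.isPrime⟩
  let S := I.primeCompl
  let a : S := ⟨g, hg⟩
  have hb : Function.Bijective (LocalizedModule.map S u) := by
    constructor
    · rw [injective_iff_map_eq_zero]
      intro z hz
      induction z using LocalizedModule.induction_on with
      | h w t =>
        rw [LocalizedModule.map_mk, ← LocalizedModule.zero_mk t, LocalizedModule.mk_eq] at hz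
        obtain ⟨s, hs'⟩ := hz
        rw [smul_zero, smul_zero, Submonoid.smul_def, Submonoid.smul_def, smul_smul, ← map_smul] at hs'
        rw [← LocalizedModule.zero_mk t, LocalizedModule.mk_eq]
        refine ⟨a * s, ?_⟩
        rw [smul_zero, smul_zero, Submonoid.smul_def, Submonoid.smul_def, Submonoid.coe_mul, mul_smul]
        have := hi _ hs'
        rwa [mul_smul] at this
    · intro z
      induction z using LocalizedModule.induction_on with
      | h m t =>
        obtain ⟨w, hw⟩ := hs m
        refine ⟨LocalizedModule.mk w (a * t), ?_⟩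
        rw [LocalizedModule.map_mk, hw]
        exact LocalizedModule.mk_cancel_common_left a t m
  exact Module.Projective.of_equiv (LinearEquiv.ofBijective _ hb)

end GrothLib.CokerReduced
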